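import Mathlib

set_option autoImplicit false

namespace Cfsg.Agent.Lib.Helper22

open Subgroup

variable {G : Type*} [Group G]

theorem le_normal_iff_map_eq_bot (N : Subgroup G) [N.Normal] (S : Subgroup G) :
    S ≤ N ↔ S.map (QuotientGroup.mk' N) = ⊥ := by
  rw [Subgroup.map_eq_bot_iff, QuotientGroup.ker_mk']

/-- three subgroups lemma modulo a normal subgroup. -/
theorem three_subgroups_normal (N : Subgroup G) [N.Normal] (H₁ H₂ H₃ : Subgroup G)
    (h1 : ⁅⁅H₂, H₃⁆, H₁⁆ ≤ N) (h2 : ⁅⁅H₃, H₁⁆, H₂⁆ ≤ N) : ⁅⁅H₁, H₂⁆, H₃⁆ ≤ N := by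
  rw [le_normal_iff_map_eq_bot, map_commutator, map_commutator] at h1 h2 ⊢
  exact commutator_commutator_eq_bot_of_rotate h1 h2

end Cfsg.Agent.Lib.Helper22
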