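import Mathlib
import Cfsg.Prelude.Def_Local
import Cfsg.Agent.Lib.Helper23.PSolv

/-! Subgroups of `p`-soluble groups are `p`-soluble. -/

set_option autoImplicit false

namespace Cfsg.Agent.Lib.Helper22

open Subgroup

theorem isPSolvable_subgroup {G : Type*} [Group G] [Finite G] {p : ℕ} (hp : p.Prime)
    (hs : Cfsg.IsPSolvable p G) (S : Subgroup G) : Cfsg.IsPSolvable p S := by
  obtain ⟨n, H, h0, hn, hmono, hnorm, hstep⟩ := hs
  refine ⟨n, fun i => (H i).subgroupOf S, ?_, ?_, ?_, ?_, ?_⟩
  · simp only [h0, bot_subgroupOf]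
  · simp only [hn, top_subgroupOf]
  · intro i j hij
    exact comap_mono (hmono hij)
  · intro i
    haveI := hnorm i
    infer_instance
  · intro i
    haveI := hnorm i.castSucc
    have hdvd : ((H i.castSucc).subgroupOf S).relIndex ((H i.succ).subgroupOf S) ∣
        (H i.castSucc).relIndex (H i.succ) := by
      rw [← inf_subgroupOf_right (H i.succ) S, relIndex_subgroupOf inf_le_right]
      exact Cfsg.Agent.Lib.Helper23.relIndex_dvd_relIndex_of_normal _ inf_le_left
    rcases hstep i with ⟨m, hm⟩ | hc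
    · left
      rw [hm] at hdvd
      obtain ⟨j, -, hj⟩ := (Nat.dvd_prime_pow hp).mp hdvd
      exact ⟨j, hj⟩
    · right
      exact Nat.Coprime.coprime_dvd_left hdvd hc

end Cfsg.Agent.Lib.Helper22
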