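import Mathlib
import Cfsg.Agent.S1853

/-! Extremal conjugation (Thompson transfer) without the K-group hypothesis; proof text follows
helper8's S1853. -/

set_option autoImplicit false

namespace Cfsg.Agent.H22

open Cfsg.Agent.S1853

theorem extremal_conj {G : Type*} [Group G] [Finite G] [IsSimpleGroup G] (hG : ¬ IsMulCommutative G)
    (S : Sylow 2 G) (T : Subgroup G) (hTS : T ≤ S)
    [hTn : (T.subgroupOf (S : Subgroup G)).Normal]
    (hcyc : IsCyclic (↥(S : Subgroup G) ⧸ T.subgroupOf (S : Subgroup G)))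
    (y : G) (hy : orderOf y = 2) (hyS : y ∈ S) (hyT : y ∉ T) :
    ∃ g : G, g * y * g⁻¹ ∈ T ∧
      ¬ 2 ∣ ((S : Subgroup G) ⊓ Subgroup.centralizer {g * y * g⁻¹}).relIndex
          (Subgroup.centralizer {g * y * g⁻¹}) ∧
      ((S : Subgroup G) ⊓ Subgroup.centralizer {y}).map (MulAut.conj g).toMonoidHom ≤
        (S : Subgroup G) ⊓ Subgroup.centralizer {g * y * g⁻¹} := by
  classical
  haveI : Fact (Nat.Prime 2) := ⟨Nat.prime_two⟩
  have hy1 : y ≠ 1 := by
    intro h; rw [h, orderOf_one] at hy; norm_num at hy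
  have hyy : y * y = 1 := by
    have := pow_orderOf_eq_one y
    rwa [hy, sq] at this
  letI : CommGroup (↥(S : Subgroup G) ⧸ T.subgroupOf (S : Subgroup G)) := IsCyclic.commGroup
  let ϕ : (S : Subgroup G) →* (↥(S : Subgroup G) ⧸ T.subgroupOf (S : Subgroup G)) :=
    QuotientGroup.mk' (T.subgroupOf (S : Subgroup G))
  have hϕ1 : ∀ s : (S : Subgroup G), ϕ s = 1 ↔ (s : G) ∈ T := by
    intro s
    show (QuotientGroup.mk s : ↥(S : Subgroup G) ⧸ T.subgroupOf (S : Subgroup G)) = 1 ↔ _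
    rw [QuotientGroup.eq_one_iff, Subgroup.mem_subgroupOf]
  set u := ϕ ⟨y, hyS⟩ with hu
  have hu1 : u ≠ 1 := fun h => hyT ((hϕ1 _).mp h)
  have huu : u * u = 1 := by
    rw [hu, ← map_mul]
    have : (⟨y, hyS⟩ : (S : Subgroup G)) * ⟨y, hyS⟩ = 1 := Subtype.ext hyy
    rw [this, map_one]
  have hu2 : orderOf u = 2 := by
    rw [orderOf_eq_iff (by norm_num)]
    refine ⟨by rw [sq]; exact huu, fun m hm hm0 => ?_⟩
    have : m = 1 := by omega
    subst this
    simpa using hu1
  let Good : G → Prop := fun x => x⁻¹ * y * x ∈ T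
  have hTconj : ∀ t ∈ T, ∀ s ∈ S, s * t * s⁻¹ ∈ T := by
    intro t ht s hs
    have := hTn.conj_mem ⟨t, hTS ht⟩ (Subgroup.mem_subgroupOf.mpr ht) ⟨s, hs⟩
    exact Subgroup.mem_subgroupOf.mp this
  have hV : ϕ.transfer y = 1 := by
    have hn : (ϕ.transfer).ker.Normal := inferInstance
    rcases hn.eq_bot_or_eq_top with h | h
    · exfalso
      apply hG
      have hinj : Function.Injective ϕ.transfer := (MonoidHom.ker_eq_bot_iff _).mp h
      exact ⟨⟨fun a b => hinj (by rw [map_mul, map_mul, mul_comm])⟩⟩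
    · have : y ∈ (ϕ.transfer).ker := h ▸ Subgroup.mem_top y
      exact this
  have heven := even_card_bad (S : Subgroup G) ϕ y hyy u hu2 Good
    (fun x hx hg => (hϕ1 _).mpr hg)
    (fun x hx hg => by
      apply cyclic_invol_unique (fun h => hg ((hϕ1 _).mp h)) _ hu1 huu
      rw [← map_mul]
      have : (⟨x⁻¹ * y * x, hx⟩ : (S : Subgroup G)) * ⟨x⁻¹ * y * x, hx⟩ = 1 := by
        apply Subtype.ext
        show x⁻¹ * y * x * (x⁻¹ * y * x) = 1
        calc x⁻¹ * y * x * (x⁻¹ * y * x) = x⁻¹ * (y * y) * x := by group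
          _ = 1 := by rw [hyy]; group
      rw [this, map_one])
    hV
  set C : Subgroup G := Subgroup.centralizer {y} with hC
  have hmemC : ∀ c, c ∈ C ↔ c * y = y * c := fun c => Subgroup.mem_centralizer_singleton_iff
  obtain ⟨R₀, hR₀⟩ := IsPGroup.exists_le_sylow (p := 2)
    (P := ((S : Subgroup G) ⊓ C).subgroupOf C) (S.2.to_le inf_le_left).comap_subtype
  set R : Subgroup G := (R₀ : Subgroup C).map C.subtype with hR
  have hRC : R ≤ C := Subgroup.map_subtype_le _
  have hR2 : IsPGroup 2 R := R₀.2.map _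
  have hSCR : (S : Subgroup G) ⊓ C ≤ R := by
    intro x hx
    exact ⟨⟨x, hx.2⟩, hR₀ (Subgroup.mem_subgroupOf.mpr hx), rfl⟩
  have hyR : y ∈ R := hSCR ⟨hyS, (hmemC y).mpr rfl⟩
  have hGood_mk : ∀ x x' : G, (QuotientGroup.mk x : G ⧸ (S : Subgroup G)) = QuotientGroup.mk x' →
      Good x → Good x' := by
    intro x x' h hg
    have hs : x⁻¹ * x' ∈ S := QuotientGroup.eq.mp h
    have := hTconj _ hg (x⁻¹ * x')⁻¹ (inv_mem hs)
    show x'⁻¹ * y * x' ∈ T
    convert this using 1
    group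
  have hGood_C : ∀ c ∈ C, ∀ x, Good (c * x) ↔ Good x := by
    intro c hc x
    have hcy : c⁻¹ * y * c = y := by
      rw [mul_assoc, ← (hmemC c).mp hc, inv_mul_cancel_left]
    show (c * x)⁻¹ * y * (c * x) ∈ T ↔ x⁻¹ * y * x ∈ T
    have : (c * x)⁻¹ * y * (c * x) = x⁻¹ * (c⁻¹ * y * c) * x := by group
    rw [this, hcy]
  let Bsub : SubMulAction R (G ⧸ (S : Subgroup G)) :=
    { carrier := {q | y • q = q ∧ ¬ Good q.out}
      smul_mem' := by
        rintro ⟨r, hr⟩ q ⟨hq1, hq2⟩
        have hrC := hRC hr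
        refine ⟨?_, ?_⟩
        · show y • (r • q) = r • q
          rw [smul_smul, ← (hmemC r).mp hrC, ← smul_smul, hq1]
        · intro hg
          apply hq2
          have e : (QuotientGroup.mk ((r • q).out) : G ⧸ (S : Subgroup G)) =
              QuotientGroup.mk (r * q.out) := by
            rw [QuotientGroup.out_eq']
            conv_lhs => rw [← QuotientGroup.out_eq' q]
            rfl
          exact (hGood_C r hrC _).mp (hGood_mk _ _ e hg) }
  have c1 := hR2.card_modEq_card_fixedPoints (G ⧸ (S : Subgroup G))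
  have c2 := hR2.card_modEq_card_fixedPoints Bsub
  have hXodd : Nat.card (G ⧸ (S : Subgroup G)) % 2 = 1 := by
    have h1 : (S : Subgroup G).index = Nat.card (G ⧸ (S : Subgroup G)) := rfl
    have h2 := S.not_dvd_index
    rw [← h1]; omega
  have hBeven : Nat.card Bsub % 2 = 0 := by
    have h1 : Nat.card Bsub =
        Nat.card {q : G ⧸ (S : Subgroup G) // y • q = q ∧ ¬ Good q.out} := rfl
    rw [h1]
    exact Nat.even_iff.mp heven
  obtain ⟨q, hqfix, hqG⟩ : ∃ q : G ⧸ (S : Subgroup G),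
      q ∈ MulAction.fixedPoints R (G ⧸ (S : Subgroup G)) ∧ Good q.out := by
    by_contra hcon
    push Not at hcon
    have e : Nat.card (MulAction.fixedPoints R Bsub) =
        Nat.card (MulAction.fixedPoints R (G ⧸ (S : Subgroup G))) := by
      refine Nat.card_eq_of_bijective
        (fun b => ⟨b.1.1, fun r => congrArg Subtype.val (b.2 r)⟩) ⟨?_, ?_⟩
      · intro b b' h
        have h' : (b.1.1 : G ⧸ (S : Subgroup G)) = b'.1.1 := (Subtype.mk.injEq _ _ _ _).mp h
        exact Subtype.ext (Subtype.ext h')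
      · intro q
        refine ⟨⟨⟨q.1, ?_, hcon q.1 q.2⟩, fun r => Subtype.ext (q.2 r)⟩, rfl⟩
        exact q.2 ⟨y, hyR⟩
    unfold Nat.ModEq at c1 c2
    omega
  set x := q.out with hx
  have hRS : ∀ r ∈ R, x⁻¹ * r * x ∈ S := by
    intro r hr
    have h1 : r • q = q := hqfix ⟨r, hr⟩
    have h2 : (QuotientGroup.mk (r * x) : G ⧸ (S : Subgroup G)) = QuotientGroup.mk x := by
      have h3 : (QuotientGroup.mk x : G ⧸ (S : Subgroup G)) = q := QuotientGroup.out_eq' q
      rw [h3]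
      conv_rhs => rw [← h1, ← h3]
      rfl
    have h4 := QuotientGroup.eq.mp h2.symm
    rwa [← mul_assoc] at h4
  have e0 : x⁻¹ * y * x⁻¹⁻¹ = x⁻¹ * y * x := by rw [inv_inv]
  set y' := x⁻¹ * y * x with hy'
  have hR'S : R.map (MulAut.conj x⁻¹).toMonoidHom ≤
      (S : Subgroup G) ⊓ Subgroup.centralizer {y'} := by
    rintro _ ⟨r, hr, rfl⟩
    constructor
    · show x⁻¹ * r * x⁻¹⁻¹ ∈ S
      rw [inv_inv]; exact hRS r hr
    · apply Subgroup.mem_centralizer_singleton_iff.mpr
      show x⁻¹ * r * x⁻¹⁻¹ * y' = y' * (x⁻¹ * r * x⁻¹⁻¹)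
      have h1 := (hmemC r).mp (hRC hr)
      rw [inv_inv, hy']
      calc x⁻¹ * r * x * (x⁻¹ * y * x) = x⁻¹ * (r * y) * x := by group
        _ = x⁻¹ * (y * r) * x := by rw [h1]
        _ = _ := by group
  have hK : Subgroup.centralizer {y'} = C.map (MulAut.conj x⁻¹).toMonoidHom := by
    ext k
    constructor
    · intro hk
      rw [Subgroup.mem_centralizer_singleton_iff] at hk
      refine ⟨x * k * x⁻¹, (hmemC _).mpr ?_, ?_⟩
      · have h1 : y = x * y' * x⁻¹ := by rw [hy']; group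
        rw [h1]
        calc x * k * x⁻¹ * (x * y' * x⁻¹) = x * (k * y') * x⁻¹ := by group
          _ = x * (y' * k) * x⁻¹ := by rw [hk]
          _ = _ := by group
      · show x⁻¹ * (x * k * x⁻¹) * x⁻¹⁻¹ = k
        group
    · rintro ⟨c, hc, rfl⟩
      rw [Subgroup.mem_centralizer_singleton_iff]
      show x⁻¹ * c * x⁻¹⁻¹ * y' = y' * (x⁻¹ * c * x⁻¹⁻¹)
      have h1 := (hmemC c).mp hc
      rw [inv_inv, hy']
      calc x⁻¹ * c * x * (x⁻¹ * y * x) = x⁻¹ * (c * y) * x := by group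
        _ = x⁻¹ * (y * c) * x := by rw [h1]
        _ = _ := by group
  refine ⟨x⁻¹, by rw [e0]; exact hqG, ?_, ?_⟩
  · rw [e0]
    intro hdvd
    have h1 := Subgroup.relIndex_dvd_of_le_left (Subgroup.centralizer {y'}) hR'S
    have h2 : (R.map (MulAut.conj x⁻¹).toMonoidHom).relIndex (Subgroup.centralizer {y'}) =
        (R₀ : Subgroup C).index := by
      rw [hK, Subgroup.relIndex_map_map_of_injective _ _ (MulAut.conj x⁻¹).injective]
      unfold Subgroup.relIndex Subgroup.subgroupOf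
      rw [hR, Subgroup.comap_map_eq_self_of_injective C.subtype_injective]
    rw [h2] at h1
    exact R₀.not_dvd_index (hdvd.trans h1)
  · rw [e0]
    exact (Subgroup.map_mono hSCR).trans hR'S


end Cfsg.Agent.H22
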