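import Mathlib
import Cfsg.Agent.Lib.Helper22.Basic
import Cfsg.Agent.Lib.Helper23.ConjCover

/-! If no `p'`-element has class size divisible by `p`, then `p`-elements commute with
`p'`-elements. -/

set_option autoImplicit false

namespace Cfsg.Agent.Lib.Helper22

open Subgroup

theorem mem_sylow_smul_iff {D : Type*} [Group D] {p : ℕ} (P : Sylow p D) (d x : D) :
    x ∈ d • P ↔ d⁻¹ * x * d ∈ P := by
  have h1 : x ∈ d • P ↔ x ∈ ((d • P : Sylow p D) : Subgroup D) := Iff.rfl
  rw [h1, Sylow.coe_subgroup_smul, Subgroup.mem_pointwise_smul_iff_inv_smul_mem]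
  simp only [MulAut.smul_def, mul_assoc, MulAut.conj_inv_apply]
  exact Iff.rfl

theorem isPGroup_zpowers_of_orderOf {D : Type*} [Group D] (p : ℕ) (u : D)
    (hu : ∃ a : ℕ, orderOf u = p ^ a) : IsPGroup p (zpowers u) := by
  obtain ⟨a, ha⟩ := hu
  rintro ⟨_, k, rfl⟩
  refine ⟨a, Subtype.ext ?_⟩
  show (u ^ k) ^ (p ^ a) = 1
  rw [← zpow_natCast, ← zpow_mul, mul_comm, zpow_mul, zpow_natCast, ← ha, pow_orderOf_eq_one,
    one_zpow]

/-- a `p`-element commuting with a `p'`-element `y` of `p'`-index lies in a Sylow `p`-subgroup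
centralized by `y`. -/
theorem exists_sylow_centralized {D : Type*} [Group D] [Finite D] (p : ℕ) [Fact p.Prime]
    (u y : D) (hu : ∃ a : ℕ, orderOf u = p ^ a)
    (hy : ¬ p ∣ (centralizer ({y} : Set D)).index) (huy : u * y = y * u) :
    ∃ S' : Sylow p D, u ∈ S' ∧ ∀ s ∈ S', s * y = y * s := by
  have hp : p.Prime := Fact.out
  set E := centralizer ({y} : Set D) with hE
  have huE : u ∈ E := mem_centralizer_singleton_iff.mpr huy
  have hpu : IsPGroup p (zpowers (⟨u, huE⟩ : E)) := by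
    apply isPGroup_zpowers_of_orderOf
    obtain ⟨a, ha⟩ := hu
    exact ⟨a, by rw [← ha]; exact (Subgroup.orderOf_mk u huE)⟩
  obtain ⟨S2, hS2⟩ := hpu.exists_le_sylow
  have h1 : IsPGroup p ((S2 : Subgroup E).map E.subtype) := S2.isPGroup'.map _
  have h2 : ¬ p ∣ ((S2 : Subgroup E).map E.subtype).index := by
    rw [index_map_subtype]
    intro h
    rcases (Nat.Prime.dvd_mul hp).mp h with h | h
    · exact S2.not_dvd_index h
    · exact hy h
  refine ⟨h1.toSylow h2, ?_, ?_⟩
  · show u ∈ (S2 : Subgroup E).map E.subtype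
    exact ⟨⟨u, huE⟩, hS2 (mem_zpowers _), rfl⟩
  · intro s hs
    have hs' : s ∈ (S2 : Subgroup E).map E.subtype := hs
    obtain ⟨z, _, rfl⟩ := hs'
    exact mem_centralizer_singleton_iff.mp z.2

theorem commute_of_not_dvd_index {D : Type*} [Group D] [Finite D] (p : ℕ) [Fact p.Prime]
    (H : ∀ y : D, (orderOf y).Coprime p → ¬ p ∣ (centralizer ({y} : Set D)).index)
    (x y : D) (hx : ∃ a : ℕ, orderOf x = p ^ a) (hy : (orderOf y).Coprime p) :
    x * y = y * x := by
  have hp : p.Prime := Fact.out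
  obtain ⟨S⟩ : Nonempty (Sylow p D) := inferInstance
  set M : Subgroup D := (S : Subgroup D) ⊔ centralizer (S : Set D) with hM
  have hcover : M = ⊤ := by
    by_contra hne
    obtain ⟨g, hg⟩ := Cfsg.Agent.Lib.Helper23.exists_not_mem_conj M hne
    obtain ⟨a, b, hab, ⟨k, hk⟩, hb⟩ := exists_pow_decomp p hp g (orderOf_pos g)
    obtain ⟨S', hu, hS'⟩ := exists_sylow_centralized p (g ^ a) (g ^ b) ⟨k, hk⟩ (H _ hb)
      (by rw [← pow_add, ← pow_add, add_comm])
    obtain ⟨d, hd⟩ := MulAction.exists_smul_eq D S' S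
    apply hg d⁻¹
    have h1 : ∀ s ∈ S', d * s * d⁻¹ ∈ S := by
      intro s hs
      rw [← hd]
      exact (mem_sylow_smul_iff S' d (d * s * d⁻¹)).mpr (by
        simpa [mul_assoc] using hs)
    have h2 : d * g ^ b * d⁻¹ ∈ centralizer (S : Set D) := by
      rw [mem_centralizer_iff]
      intro s hs
      have hs' : d⁻¹ * s * d ∈ S' := by
        have : s ∈ d • S' := by rw [hd]; exact hs
        exact (mem_sylow_smul_iff S' d s).mp this
      have h4 := hS' _ hs'
      calc s * (d * g ^ b * d⁻¹) = d * ((d⁻¹ * s * d) * g ^ b) * d⁻¹ := by group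
        _ = d * (g ^ b * (d⁻¹ * s * d)) * d⁻¹ := by rw [h4]
        _ = d * g ^ b * d⁻¹ * s := by group
    have h3 : d⁻¹⁻¹ * g * d⁻¹ = (d * g ^ a * d⁻¹) * (d * g ^ b * d⁻¹) := by
      conv_lhs => rw [← hab]
      group
    rw [h3]
    exact M.mul_mem (le_sup_left (a := (S : Subgroup D)) (h1 _ hu)) (le_sup_right (a := (S : Subgroup D)) h2)
  have hSn : (S : Subgroup D).Normal := by
    rw [← normalizer_eq_top_iff, eq_top_iff, ← hcover, hM]
    exact sup_le le_normalizer (centralizer_le_normalizer _)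
  haveI := Sylow.unique_of_normal S hSn
  obtain ⟨S', -, hS'⟩ := exists_sylow_centralized p 1 y ⟨0, by simp⟩ (H _ hy) (by simp)
  obtain ⟨S'', hS''⟩ := (isPGroup_zpowers_of_orderOf p x hx).exists_le_sylow
  have h1 : S'' = S' := Subsingleton.elim _ _
  exact hS' x (h1 ▸ hS'' (mem_zpowers x))

/-- a subgroup containing all elements of prime power order for primes other than `p` contains
all `p'`-elements. -/
theorem mem_of_coprime_of_prime_pow {G : Type*} [Group G] [Finite G] (p : ℕ) (D : Subgroup G)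
    (h : ∀ y : G, (∃ q k : ℕ, q.Prime ∧ q ≠ p ∧ orderOf y = q ^ k) → y ∈ D) :
    ∀ (n : ℕ) (y : G), orderOf y = n → n.Coprime p → y ∈ D := by
  intro n
  induction n using Nat.strong_induction_on with
  | _ n ih =>
  intro y hy hn
  by_cases hn1 : n = 1
  · rw [hn1, orderOf_eq_one_iff] at hy
    rw [hy]; exact one_mem _
  obtain ⟨q, hq, hqn⟩ := Nat.exists_prime_and_dvd hn1
  have hqp : q ≠ p := by
    rintro rfl
    have := Nat.Coprime.coprime_dvd_left hqn hn
    rw [Nat.coprime_self] at this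
    exact hq.one_lt.ne' this
  obtain ⟨a, b, hab, ⟨k, hk⟩, hb⟩ := exists_pow_decomp q hq y (orderOf_pos y)
  have h1 : y ^ a ∈ D := h _ ⟨q, k, hq, hqp, hk⟩
  have hdvd : orderOf (y ^ b) ∣ n := hy ▸ orderOf_pow_dvd b
  have hlt : orderOf (y ^ b) < n := by
    refine lt_of_le_of_ne (Nat.le_of_dvd (hy ▸ orderOf_pos y) hdvd) ?_
    intro heq
    rw [heq] at hb
    have := Nat.Coprime.coprime_dvd_left hqn hb
    rw [Nat.coprime_self] at this
    exact hq.one_lt.ne' this
  have h2 : y ^ b ∈ D := ih _ hlt _ rfl (Nat.Coprime.coprime_dvd_left hdvd hn)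
  rw [← hab]
  exact D.mul_mem h1 h2

end Cfsg.Agent.Lib.Helper22
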