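import Mathlib
import Cfsg.Prelude.Def_Local

/-! Building `p`-soluble groups from short chains and from quotients by `p'`-groups. -/

set_option autoImplicit false

namespace Cfsg.Agent.Lib.Helper22

open Subgroup

theorem isPSolvable_of_chain3 {G : Type*} [Group G] {p : ℕ} (M C : Subgroup G)
    (hM : M.Normal) (hC : C.Normal) (hMC : M ≤ C) (h1 : (Nat.card M).Coprime p)
    (h2 : ∃ m : ℕ, M.relIndex C = p ^ m) (h3 : C.index.Coprime p) : Cfsg.IsPSolvable p G := by
  refine ⟨3, ![⊥, M, C, ⊤], rfl, rfl, ?_, ?_, ?_⟩
  · rw [Fin.monotone_iff_le_succ]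
    intro i
    fin_cases i
    · exact bot_le
    · exact hMC
    · exact le_top
  · intro i
    fin_cases i
    · exact (inferInstance : (⊥ : Subgroup G).Normal)
    · exact hM
    · exact hC
    · exact (inferInstance : (⊤ : Subgroup G).Normal)
  · intro i
    fin_cases i
    · right
      show ((⊥ : Subgroup G).relIndex M).Coprime p
      rw [relIndex_bot_left]; exact h1
    · left
      exact h2
    · right
      show (C.relIndex ⊤).Coprime p
      rw [relIndex_top_right]; exact h3

theorem isPSolvable_of_quotient {G : Type*} [Group G] {p : ℕ} (K : Subgroup G) [K.Normal]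
    (hK : (Nat.card K).Coprime p) (hs : Cfsg.IsPSolvable p (G ⧸ K)) : Cfsg.IsPSolvable p G := by
  obtain ⟨n, H, h0, hn, hmono, hnorm, hstep⟩ := hs
  have hsurj := QuotientGroup.mk'_surjective K
  refine ⟨n + 1, Fin.cons ⊥ (fun i => (H i).comap (QuotientGroup.mk' K)), ?_, ?_, ?_, ?_, ?_⟩
  · rfl
  · rw [← Fin.succ_last, Fin.cons_succ, hn, comap_top]
  · rw [Fin.monotone_iff_le_succ]
    intro i
    refine Fin.cases ?_ (fun j => ?_) i
    · exact bot_le
    · rw [← Fin.succ_castSucc, Fin.cons_succ, Fin.cons_succ]
      exact comap_mono (hmono (Fin.castSucc_le_succ j))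
  · intro i
    refine Fin.cases ?_ (fun j => ?_) i
    · exact (inferInstance : (⊥ : Subgroup G).Normal)
    · rw [Fin.cons_succ]
      haveI := hnorm j
      infer_instance
  · intro i
    refine Fin.cases ?_ (fun j => ?_) i
    · right
      rw [Fin.cons_succ, h0]
      show ((⊥ : Subgroup G).relIndex _).Coprime p
      rw [relIndex_bot_left, MonoidHom.comap_bot, QuotientGroup.ker_mk']
      exact hK
    · rw [← Fin.succ_castSucc, Fin.cons_succ, Fin.cons_succ, relIndex_comap,
        map_comap_eq_self_of_surjective hsurj]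
      exact hstep j

end Cfsg.Agent.Lib.Helper22
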