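import Mathlib
import Cfsg.Agent.Lib.Helper22.Basic
import Cfsg.Agent.Lib.Helper22.Basic2

set_option autoImplicit false

namespace Cfsg.Agent.Lib.Helper22

open Subgroup

universe u

/-- A conjugacy class of `π`-elements. -/
def IsPiClass {G : Type*} [Group G] (π : Set ℕ) (C : ConjClasses G) : Prop :=
  ∀ q : ℕ, q.Prime → (∃ g : G, ConjClasses.mk g = C ∧ q ∣ orderOf g) → q ∈ π

theorem orderOf_eq_of_isConj {G : Type*} [Group G] {a b : G} (h : IsConj a b) :
    orderOf a = orderOf b := by
  obtain ⟨c, rfl⟩ := isConj_iff.mp h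
  exact ((MulAut.conj c).orderOf_eq a).symm

theorem isPiClass_mk_iff {G : Type*} [Group G] (π : Set ℕ) (g : G) :
    IsPiClass π (ConjClasses.mk g) ↔ ∀ q : ℕ, q.Prime → q ∣ orderOf g → q ∈ π := by
  constructor
  · intro h q hq hd
    exact h q hq ⟨g, rfl, hd⟩
  · rintro h q hq ⟨g', hg', hd⟩
    rw [orderOf_eq_of_isConj (ConjClasses.mk_eq_mk_iff_isConj.mp hg')] at hd
    exact h q hq hd

theorem card_piClasses_le (s : Finset ℕ) : (∀ q ∈ s, q.Prime) →
    ∀ (G : Type u) [Group G] [Finite G],
    Nat.card {C : ConjClasses G // IsPiClass (↑s : Set ℕ) C} ≤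
      ∏ q ∈ s, q ^ (Nat.card G).factorization q := by
  classical
  induction s using Finset.induction_on with
  | empty =>
    intro _ G _ _
    rw [Finset.prod_empty, Finite.card_le_one_iff_subsingleton]
    have key : ∀ C : {C : ConjClasses G // IsPiClass (↑(∅ : Finset ℕ) : Set ℕ) C},
        C.1 = ConjClasses.mk 1 := by
      rintro ⟨C, hC⟩
      obtain ⟨g, rfl⟩ := ConjClasses.exists_rep C
      rw [isPiClass_mk_iff] at hC
      have h1 : orderOf g = 1 := by
        by_contra hne
        exact absurd (hC _ (Nat.minFac_prime hne) (Nat.minFac_dvd _)) (by simp)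
      rw [orderOf_eq_one_iff] at h1
      show ConjClasses.mk g = ConjClasses.mk 1
      rw [h1]
    exact ⟨fun a b => Subtype.ext ((key a).trans (key b).symm)⟩
  | insert p s hps ih =>
    intro hs G _ _
    have hp : p.Prime := hs p (Finset.mem_insert_self p s)
    haveI : Fact p.Prime := ⟨hp⟩
    have ih' := ih (fun q hq => hs q (Finset.mem_insert_of_mem hq))
    obtain ⟨P⟩ : Nonempty (Sylow p G) := inferInstance
    let T := Σ u : (P : Subgroup G),
      {C : ConjClasses (centralizer ({(u : G)} : Set G)) // IsPiClass (↑s : Set ℕ) C}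
    have hwd : ∀ t : T, IsPiClass (↑(insert p s) : Set ℕ)
        (ConjClasses.mk ((t.1 : G) * ((Quotient.out t.2.1 : centralizer ({(t.1 : G)} : Set G)) : G))) := by
      rintro ⟨u, C, hC⟩
      rw [isPiClass_mk_iff]
      intro q hq hd
      set v := (Quotient.out C : centralizer ({(u : G)} : Set G)) with hv
      have hCv : ConjClasses.mk v = C := Quotient.out_eq' C
      rw [← hCv, isPiClass_mk_iff] at hC
      have hcomm : Commute (u : G) (v : G) := by
        have := v.2
        rw [mem_centralizer_singleton_iff] at this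
        exact this.symm
      have h1 : q ∣ orderOf (u : G) * orderOf (v : G) :=
        hd.trans (hcomm.orderOf_mul_dvd_lcm.trans (Nat.lcm_dvd_mul _ _))
      rcases (Nat.Prime.dvd_mul hq).mp h1 with h2 | h2
      · obtain ⟨k, hk⟩ := (IsPGroup.iff_orderOf.mp P.isPGroup') u
        rw [Subgroup.orderOf_coe, hk] at h2
        have := (Nat.prime_dvd_prime_iff_eq hq hp).mp (hq.dvd_of_dvd_pow h2)
        rw [this]
        simp
      · rw [Subgroup.orderOf_coe] at h2
        have := hC q hq h2
        simp only [Finset.coe_insert, Set.mem_insert_iff]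
        exact Or.inr this
    let F : T → {C : ConjClasses G // IsPiClass (↑(insert p s) : Set ℕ) C} := fun t => ⟨_, hwd t⟩
    have hsurj : Function.Surjective F := by
      rintro ⟨C, hC⟩
      obtain ⟨g, rfl⟩ := ConjClasses.exists_rep C
      rw [isPiClass_mk_iff] at hC
      obtain ⟨a, b, hab, ⟨k, hk⟩, hcop⟩ := exists_pow_decomp p hp g (orderOf_pos g)
      have hPG : IsPGroup p (zpowers (g ^ a)) := IsPGroup.of_card (n := k) (by rw [Nat.card_zpowers, hk])
      obtain ⟨t, ht⟩ := exists_conj_mem_of_isPGroup (P : Subgroup G) (zpowers (g ^ a)) P.isPGroup'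
        P.not_dvd_index hPG
      have hu := ht _ (mem_zpowers (g ^ a))
      set u : G := t⁻¹ * g ^ a * t with hu_def
      set v : G := t⁻¹ * g ^ b * t with hv_def
      have huv : u * v = t⁻¹ * g * t := by
        rw [hu_def, hv_def]
        conv_rhs => rw [← hab]
        group
      have hvu : v * u = u * v := by
        rw [hu_def, hv_def]
        have : g ^ b * g ^ a = g ^ a * g ^ b := by rw [← pow_add, ← pow_add, add_comm]
        calc t⁻¹ * g ^ b * t * (t⁻¹ * g ^ a * t) = t⁻¹ * (g ^ b * g ^ a) * t := by group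
          _ = t⁻¹ * (g ^ a * g ^ b) * t := by rw [this]
          _ = _ := by group
      have hvmem : v ∈ centralizer ({u} : Set G) := by
        rw [mem_centralizer_singleton_iff]; exact hvu
      have hordv : orderOf v = orderOf (g ^ b) := by
        have := (MulAut.conj t⁻¹).orderOf_eq (g ^ b)
        simpa [hv_def] using this
      have hC' : IsPiClass (↑s : Set ℕ)
          (ConjClasses.mk (⟨v, hvmem⟩ : centralizer ({u} : Set G))) := by
        rw [isPiClass_mk_iff]
        intro q hq hd
        rw [← Subgroup.orderOf_coe] at hd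
        simp only at hd
        rw [hordv] at hd
        have h1 := hC q hq (hd.trans (orderOf_pow_dvd b))
        simp only [Finset.coe_insert, Set.mem_insert_iff] at h1
        rcases h1 with rfl | h1
        · exfalso
          have := Nat.Coprime.eq_one_of_dvd hcop.symm hd
          exact hq.one_lt.ne' this
        · exact h1
      refine ⟨⟨⟨u, hu⟩, ⟨_, hC'⟩⟩, ?_⟩
      apply Subtype.ext
      show ConjClasses.mk (u * ((Quotient.out (ConjClasses.mk (⟨v, hvmem⟩ : centralizer ({u} : Set G))) :
        centralizer ({u} : Set G)) : G)) = ConjClasses.mk g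
      set w := (Quotient.out (ConjClasses.mk (⟨v, hvmem⟩ : centralizer ({u} : Set G))) :
        centralizer ({u} : Set G)) with hw
      have hwv : ConjClasses.mk w = ConjClasses.mk (⟨v, hvmem⟩ : centralizer ({u} : Set G)) :=
        Quotient.out_eq' _
      obtain ⟨c, hc⟩ := isConj_iff.mp (ConjClasses.mk_eq_mk_iff_isConj.mp hwv)
      have hc' : (c : G) * (w : G) * (c : G)⁻¹ = v := congrArg Subtype.val hc
      have hcu : (c : G) * u = u * c := by
        have := c.2
        rwa [mem_centralizer_singleton_iff] at this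
      rw [ConjClasses.mk_eq_mk_iff_isConj, isConj_iff]
      refine ⟨t * c, ?_⟩
      calc t * c * (u * w) * (t * c)⁻¹ = t * ((c * u) * w * (c : G)⁻¹) * t⁻¹ := by group
        _ = t * (u * (c * w * (c : G)⁻¹)) * t⁻¹ := by rw [hcu]; group
        _ = t * (u * v) * t⁻¹ := by rw [hc']
        _ = g := by rw [huv]; group
    have h1 := Nat.card_le_card_of_surjective F hsurj
    refine h1.trans ?_
    haveI : Fintype (P : Subgroup G) := Fintype.ofFinite _
    rw [Nat.card_sigma, Finset.prod_insert hps]
    have h2 : ∀ u : (P : Subgroup G),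
        Nat.card {C : ConjClasses (centralizer ({(u : G)} : Set G)) // IsPiClass (↑s : Set ℕ) C} ≤
          ∏ q ∈ s, q ^ (Nat.card G).factorization q := by
      intro u
      refine (ih' (centralizer ({(u : G)} : Set G))).trans ?_
      apply Finset.prod_le_prod'
      intro q hq
      apply Nat.le_of_dvd (pow_pos (hs q (Finset.mem_insert_of_mem hq)).pos _)
      exact Nat.ordProj_dvd_ordProj_of_dvd Nat.card_pos.ne' (card_subgroup_dvd_card _) q
    refine (Finset.sum_le_sum fun u _ => h2 u).trans ?_
    rw [Finset.sum_const, Finset.card_univ, smul_eq_mul, ← Nat.card_eq_fintype_card,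
      P.card_eq_multiplicity]

end Cfsg.Agent.Lib.Helper22
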