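import Mathlib

/-! Families of subgroups of order `p` satisfying a one-or-all axiom: basic lemmas (helper22). -/

set_option autoImplicit false

namespace Cfsg.Agent.H22

open Subgroup

variable {G : Type*} [Group G]

/-- Elementwise commuting subgroups. -/
def Cm (X Y : Subgroup G) : Prop := ∀ x ∈ X, ∀ y ∈ Y, x * y = y * x

theorem Cm.symm {X Y : Subgroup G} (h : Cm X Y) : Cm Y X := fun y hy x hx => (h x hx y hy).symm

theorem mem_sup_of_cm {X Y : Subgroup G} (h : Cm X Y) {a : G} (ha : a ∈ X ⊔ Y) :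
    ∃ x ∈ X, ∃ y ∈ Y, a = x * y := by
  let R : Subgroup G :=
    { carrier := {a | ∃ x ∈ X, ∃ y ∈ Y, a = x * y}
      one_mem' := ⟨1, X.one_mem, 1, Y.one_mem, by simp⟩
      mul_mem' := by
        rintro _ _ ⟨x, hx, y, hy, rfl⟩ ⟨x', hx', y', hy', rfl⟩
        refine ⟨x * x', X.mul_mem hx hx', y * y', Y.mul_mem hy hy', ?_⟩
        calc x * y * (x' * y') = x * (y * x') * y' := by group
          _ = x * (x' * y) * y' := by rw [h x' hx' y hy]
          _ = x * x' * (y * y') := by group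
      inv_mem' := by
        rintro _ ⟨x, hx, y, hy, rfl⟩
        refine ⟨x⁻¹, X.inv_mem hx, y⁻¹, Y.inv_mem hy, ?_⟩
        rw [h x hx y hy]; group }
  have hR : X ⊔ Y ≤ R := sup_le (fun x hx => ⟨x, hx, 1, Y.one_mem, by simp⟩)
    (fun y hy => ⟨1, X.one_mem, y, hy, by simp⟩)
  exact hR ha

theorem cm_le_normalizer {X W : Subgroup G} (h : Cm X W) : X ≤ normalizer (W : Set G) := by
  intro x hx
  rw [mem_normalizer_iff]
  intro w
  constructor
  · intro hw
    rw [h x hx w hw]; simpa using hw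
  · intro hw
    have h1 := h x hx _ hw
    have h2 : w = x * w * x⁻¹ := by
      calc w = x⁻¹ * ((x * w * x⁻¹) * x) := by group
        _ = x⁻¹ * (x * (x * w * x⁻¹)) := by rw [h1]
        _ = x * w * x⁻¹ := by group
    rw [h2]; exact hw

theorem cm_zpowers {a b : G} (h : a * b = b * a) : Cm (zpowers a) (zpowers b) := by
  rintro _ ⟨i, rfl⟩ _ ⟨j, rfl⟩
  exact (((show Commute a b from h).zpow_left i).zpow_right j).eq

theorem cm_iff_le_centralizer {X Y : Subgroup G} : Cm X Y ↔ X ≤ centralizer (Y : Set G) := by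
  constructor
  · intro h x hx
    rw [mem_centralizer_iff]
    intro y hy
    exact (h x hx y hy).symm
  · intro h x hx y hy
    exact (mem_centralizer_iff.1 (h hx) y hy).symm

theorem Cm.sup_left {X Y W : Subgroup G} (h1 : Cm X W) (h2 : Cm Y W) : Cm (X ⊔ Y) W := by
  rw [cm_iff_le_centralizer] at *
  exact sup_le h1 h2

theorem isPGroup_zpowers_of_pow {p : ℕ} {c : G} (h : c ^ p = 1) : IsPGroup p (zpowers c) := by
  rintro ⟨g, i, rfl⟩
  refine ⟨1, Subtype.ext ?_⟩
  show (c ^ i) ^ (p ^ 1) = 1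
  rw [pow_one, ← zpow_natCast, ← zpow_mul, mul_comm, zpow_mul, zpow_natCast, h, one_zpow]

section prime

variable [Finite G] {p : ℕ} [hp : Fact p.Prime]

theorem pow_eq_one_of_card {X : Subgroup G} (hX : Nat.card X = p) {x : G} (hx : x ∈ X) :
    x ^ p = 1 := by
  have := Subgroup.orderOf_dvd_natCard X hx
  rw [hX] at this
  exact orderOf_dvd_iff_pow_eq_one.1 this

theorem card_zpowers_of_pow {a : G} (ha : a ^ p = 1) (ha1 : a ≠ 1) : Nat.card (zpowers a) = p := by
  rw [Nat.card_zpowers]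
  exact orderOf_eq_prime ha ha1

theorem eq_zpowers_of_card {X : Subgroup G} (hX : Nat.card X = p) {x : G} (hx : x ∈ X)
    (hx1 : x ≠ 1) : X = zpowers x := by
  symm
  apply Subgroup.eq_of_le_of_card_ge ((zpowers_le).2 hx)
  rw [hX, card_zpowers_of_pow (pow_eq_one_of_card hX hx) hx1]

theorem exists_ne_one_of_card {X : Subgroup G} (hX : Nat.card X = p) : ∃ x ∈ X, x ≠ 1 := by
  by_contra hcon
  push Not at hcon
  have hb : X = ⊥ := (Subgroup.eq_bot_iff_forall X).2 hcon
  rw [hb, Subgroup.card_bot] at hX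
  exact hp.out.one_lt.ne hX

theorem cm_self_of_card {X : Subgroup G} (hX : Nat.card X = p) : Cm X X := by
  obtain ⟨x, hx, hx1⟩ := exists_ne_one_of_card hX
  rw [eq_zpowers_of_card hX hx hx1]
  exact cm_zpowers rfl

theorem cm_of_gen {X Y : Subgroup G} (hX : Nat.card X = p) (hY : Nat.card Y = p) {x y : G}
    (hx : x ∈ X) (hx1 : x ≠ 1) (hy : y ∈ Y) (hy1 : y ≠ 1) (h : x * y = y * x) : Cm X Y := by
  rw [eq_zpowers_of_card hX hx hx1, eq_zpowers_of_card hY hy hy1]
  exact cm_zpowers h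

theorem cm_of_gen_left {X Y : Subgroup G} (hX : Nat.card X = p) {x : G}
    (hx : x ∈ X) (hx1 : x ≠ 1) (h : ∀ y ∈ Y, x * y = y * x) : Cm X Y := by
  rw [eq_zpowers_of_card hX hx hx1, cm_iff_le_centralizer, zpowers_le, mem_centralizer_iff]
  intro y hy
  exact (h y hy).symm

theorem isPGroup_of_card {X : Subgroup G} (hX : Nat.card X = p) : IsPGroup p X :=
  IsPGroup.of_card (n := 1) (by rw [hX, pow_one])

/-- A `p`-element normalizing a subgroup of order `p` centralizes it. -/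
theorem mem_centralizer_of_pElement {X : Subgroup G} (hX : Nat.card X = p) {q : G}
    (hq : q ∈ normalizer (X : Set G)) {k : ℕ} (hqk : q ^ (p ^ k) = 1) :
    q ∈ centralizer (X : Set G) := by
  haveI : IsCyclic X := isCyclic_of_prime_card hX
  set φ := X.normalizerMonoidHom ⟨q, hq⟩ with hφ
  have h1 : φ ^ (p ^ k) = 1 := by
    rw [hφ, ← map_pow]
    have : (⟨q, hq⟩ : normalizer (X : Set G)) ^ (p ^ k) = 1 := Subtype.ext hqk
    rw [this, map_one]
  have h2 : orderOf φ ∣ p ^ k := orderOf_dvd_of_pow_eq_one h1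
  have h3 : orderOf φ ∣ p - 1 := by
    have := orderOf_dvd_natCard φ
    rwa [IsCyclic.card_mulAut, hX, Nat.totient_prime hp.out] at this
  have hcop : Nat.Coprime (p ^ k) (p - 1) := by
    apply Nat.Coprime.pow_left
    have := hp.out.one_lt
    have h4 : Nat.Coprime (p - 1 + 1) (p - 1) := by simp
    rwa [Nat.sub_add_cancel this.le] at h4
  have h5 : orderOf φ = 1 := Nat.eq_one_of_dvd_coprimes hcop h2 h3
  have h6 : φ = 1 := orderOf_eq_one_iff.1 h5
  have h7 : (⟨q, hq⟩ : normalizer (X : Set G)) ∈ X.normalizerMonoidHom.ker := h6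
  rw [normalizerMonoidHom_ker, mem_subgroupOf] at h7
  exact h7

/-- A `p`-group `A` normalizing `B` and `F` (`F` a `p`-group not inside `B`) fixes a nontrivial coset. -/
theorem exists_fixed_coset_p (A F B : Subgroup G) (hA : IsPGroup p A) (hF : IsPGroup p F)
    (hne : ∃ q ∈ F, q ∉ B) (hAF : ∀ a ∈ A, ∀ f ∈ F, a * f * a⁻¹ ∈ F)
    (hAB : ∀ a ∈ A, ∀ b ∈ B, a * b * a⁻¹ ∈ B) :
    ∃ q ∈ F, q ∉ B ∧ ∀ a ∈ A, q⁻¹ * (a * q * a⁻¹) ∈ B := by
  classical
  letI act : MulAction ↥A ↥F :=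
    { smul := fun a f => ⟨a * f * a⁻¹, hAF a a.2 f f.2⟩
      one_smul := fun f => Subtype.ext (by
        show ((1 : ↥A) : G) * f * ((1 : ↥A) : G)⁻¹ = f
        simp)
      mul_smul := fun a b f => Subtype.ext (by
        show ((a * b : ↥A) : G) * f * ((a * b : ↥A) : G)⁻¹ = a * (b * f * (b : G)⁻¹) * (a : G)⁻¹
        simp [mul_assoc]) }
  have hsmul : ∀ (a : ↥A) (f : ↥F), ((a • f : ↥F) : G) = a * f * (a : G)⁻¹ := fun _ _ => rfl
  haveI : MulAction.QuotientAction ↥A (B.subgroupOf F) := ⟨by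
    intro a f f' h
    rw [Subgroup.mem_subgroupOf] at h ⊢
    have h1 := hAB a a.2 _ h
    have e : (((a • f)⁻¹ * a • f' : ↥F) : G) = a * ((f⁻¹ * f' : ↥F) : G) * (a : G)⁻¹ := by
      simp only [Subgroup.coe_mul, Subgroup.coe_inv, hsmul]
      group
    rw [e]; exact h1⟩
  have hdvd : p ∣ Nat.card (↥F ⧸ B.subgroupOf F) := by
    obtain ⟨k, hk⟩ := hF.index (B.subgroupOf F)
    rw [← Subgroup.index_eq_card, hk]
    rcases Nat.eq_zero_or_pos k with rfl | hk0
    · exfalso
      rw [pow_zero, Subgroup.index_eq_one] at hk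
      obtain ⟨q, hqF, hqB⟩ := hne
      have : (⟨q, hqF⟩ : ↥F) ∈ B.subgroupOf F := hk ▸ Subgroup.mem_top _
      exact hqB (Subgroup.mem_subgroupOf.1 this)
    · exact dvd_pow_self p hk0.ne'
  have hfix : ((1 : ↥F) : ↥F ⧸ B.subgroupOf F) ∈ MulAction.fixedPoints ↥A (↥F ⧸ B.subgroupOf F) := by
    intro a
    rw [MulAction.Quotient.smul_coe]
    congr 1
    apply Subtype.ext
    rw [hsmul]; simp
  obtain ⟨b, hb, hb1⟩ := hA.exists_fixed_point_of_prime_dvd_card_of_fixed_point _ hdvd hfix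
  induction b using QuotientGroup.induction_on with
  | H q =>
    refine ⟨q, q.2, ?_, ?_⟩
    · intro hqB
      apply hb1
      rw [QuotientGroup.eq]
      rw [Subgroup.mem_subgroupOf]
      simpa using hqB
    · intro a ha
      have h1 := hb ⟨a, ha⟩
      rw [MulAction.Quotient.smul_coe] at h1
      have h2 := QuotientGroup.eq.1 h1.symm
      rw [Subgroup.mem_subgroupOf] at h2
      simpa [hsmul] using h2

end prime

end Cfsg.Agent.H22
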