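import Mathlib
import Cfsg.Prelude.Def_Solvable
import Cfsg.Agent.S0039
import Cfsg.Agent.S0040
import Cfsg.Agent.Lib.Helper22.FrobKernel

/-! Fixed-point-free actions realised inside semidirect products. -/

set_option autoImplicit false

namespace Cfsg.Agent.Lib.Helper22

open Subgroup SemidirectProduct

variable {K H : Type*} [Group K] [Group H] (φ : H →* MulAut K)

theorem normal_range_inl : (inl : K →* K ⋊[φ] H).range.Normal := by
  rw [SemidirectProduct.range_inl_eq_ker_rightHom]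
  infer_instance

theorem isComplement'_range_inl_inr :
    IsComplement' (inl : K →* K ⋊[φ] H).range (inr : H →* K ⋊[φ] H).range := by
  apply isComplement'_of_disjoint_and_mul_eq_univ
  · rw [disjoint_def]
    rintro x ⟨k, rfl⟩ ⟨h, hh⟩
    have h1 := congrArg SemidirectProduct.left hh
    simp only [left_inr, left_inl] at h1
    rw [← h1, map_one]
  · rw [Set.eq_univ_iff_forall]
    intro x
    exact ⟨inl x.left, ⟨x.left, rfl⟩, inr x.right, ⟨x.right, rfl⟩, inl_left_mul_inr_right x⟩

theorem range_inl_inf_centralizer (hfpf : ∀ h : H, h ≠ 1 → ∀ k : K, φ h k = k → k = 1) :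
    ∀ y ∈ (inr : H →* K ⋊[φ] H).range, y ≠ 1 →
      (inl : K →* K ⋊[φ] H).range ⊓ centralizer {y} = ⊥ := by
  rintro _ ⟨h, rfl⟩ hy
  have hh : h ≠ 1 := by
    rintro rfl
    exact hy (map_one _)
  rw [eq_bot_iff]
  rintro _ ⟨⟨k, rfl⟩, hc⟩
  replace hc : (inl k : K ⋊[φ] H) ∈ centralizer {(inr h : K ⋊[φ] H)} := hc
  rw [mem_centralizer_singleton_iff] at hc
  have h1 : (inl (φ h k) : K ⋊[φ] H) = inl k := by
    rw [inl_aut, ← hc, map_inv, mul_inv_cancel_right]
  have h2 := hfpf h hh k (inl_injective h1)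
  rw [mem_bot, h2, map_one]

theorem finite_semidirectProduct [Finite K] [Finite H] : Finite (K ⋊[φ] H) :=
  Finite.of_equiv (K × H) (SemidirectProduct.equivProd).symm

theorem range_inl_ne_bot [Nontrivial K] : (inl : K →* K ⋊[φ] H).range ≠ ⊥ := by
  intro h
  obtain ⟨k, hk⟩ := exists_ne (1 : K)
  have h1 : (inl k : K ⋊[φ] H) ∈ (inl : K →* K ⋊[φ] H).range := ⟨k, rfl⟩
  rw [h, mem_bot] at h1
  exact hk (inl_injective (h1.trans (map_one _).symm))

theorem range_inr_ne_bot [Nontrivial H] : (inr : H →* K ⋊[φ] H).range ≠ ⊥ := by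
  intro h
  obtain ⟨k, hk⟩ := exists_ne (1 : H)
  have h1 : (inr k : K ⋊[φ] H) ∈ (inr : H →* K ⋊[φ] H).range := ⟨k, rfl⟩
  rw [h, mem_bot] at h1
  exact hk (inr_injective (h1.trans (map_one _).symm))

/-- A `p`-group acting fixed-point-freely on a nontrivial finite group is cyclic or generalized
quaternion. -/
theorem isCyclic_or_quaternion_of_fpf [Finite K] [Finite H] [Nontrivial K] (p : ℕ) [Fact p.Prime]
    (hH : IsPGroup p H) (hfpf : ∀ h : H, h ≠ 1 → ∀ k : K, φ h k = k → k = 1) :
    IsCyclic H ∨ ∃ n : ℕ, Nonempty (H ≃* QuaternionGroup (2 ^ n)) := by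
  haveI := normal_range_inl φ
  haveI := finite_semidirectProduct φ
  let e : H ≃* (inr : H →* K ⋊[φ] H).range := MonoidHom.ofInjective inr_injective
  have hR : IsPGroup p (inr : H →* K ⋊[φ] H).range := hH.of_equiv e
  obtain ⟨P⟩ : Nonempty (Sylow p (inr : H →* K ⋊[φ] H).range) := inferInstance
  have hP : (P : Subgroup (inr : H →* K ⋊[φ] H).range) = ⊤ :=
    (P.is_maximal' (hR.to_subgroup ⊤) le_top).symm
  let e2 : H ≃* P := e.trans ((Subgroup.topEquiv.symm).trans (MulEquiv.subgroupCongr hP.symm))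
  rcases Cfsg.Agent.S0040.result _ _ (isComplement'_range_inl_inr φ) (range_inl_ne_bot φ)
    (range_inl_inf_centralizer φ hfpf) p P with h | ⟨n, ⟨f⟩⟩
  · left
    exact isCyclic_of_surjective e2.symm e2.symm.surjective
  · right
    exact ⟨n, ⟨e2.trans f⟩⟩

theorem IsFrobeniusComplement.map_equiv {G G' : Type*} [Group G] [Group G'] (f : G ≃* G')
    {C : Subgroup G} (hC : Cfsg.IsFrobeniusComplement C) :
    Cfsg.IsFrobeniusComplement (C.map (f : G →* G')) := by
  rw [isFrobeniusComplement_iff] at hC ⊢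
  obtain ⟨h1, h2, h3⟩ := hC
  refine ⟨?_, ?_, ?_⟩
  · intro h
    exact h1 ((map_eq_bot_iff_of_injective C f.injective).mp h)
  · intro h
    apply h2
    rw [eq_top_iff]
    intro x _
    have hx : f x ∈ C.map (f : G →* G') := h ▸ mem_top _
    obtain ⟨y, hy, hxy⟩ := hx
    rwa [← f.injective hxy]
  · rintro u _ hu ⟨x, hx, rfl⟩ ⟨y, hy, hxy⟩
    obtain ⟨v, rfl⟩ := f.surjective u
    have hv : v ∉ C := fun h => hu ⟨v, h, rfl⟩
    have h4 : y = v⁻¹ * x * v := by
      apply f.injective
      rw [map_mul, map_mul, map_inv]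
      exact hxy
    have h5 := h3 v x hv hx (h4 ▸ hy)
    rw [h5]
    exact map_one _

theorem small_of_finite' (α : Type*) [Finite α] : Small.{0} α := by
  obtain ⟨n, ⟨e⟩⟩ := Finite.exists_equiv_fin α
  exact ⟨Fin n, ⟨e⟩⟩

/-- A nontrivial finite group acting fixed-point-freely on a nontrivial finite group is
(abstractly) a Frobenius complement, with kernel of the same size as the group acted on. -/
theorem exists_frobeniusComplement_of_fpf [Finite K] [Finite H] [Nontrivial K] [Nontrivial H]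
    (hfpf : ∀ h : H, h ≠ 1 → ∀ k : K, φ h k = k → k = 1) :
    ∃ (L : Type) (_ : Group L) (_ : Finite L) (C : Subgroup L), Cfsg.IsFrobeniusComplement C ∧
      Nonempty (H ≃* C) ∧ Nat.card (Cfsg.frobeniusKernel C) = Nat.card K := by
  haveI := normal_range_inl φ
  haveI := finite_semidirectProduct φ
  haveI := small_of_finite' (K ⋊[φ] H)
  have hc := isComplement'_range_inl_inr φ
  have hF : Cfsg.IsFrobeniusComplement (inr : H →* K ⋊[φ] H).range :=
    (Cfsg.Agent.S0039.result _ _ hc (range_inl_ne_bot φ) (range_inr_ne_bot φ)).mpr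
      (range_inl_inf_centralizer φ hfpf)
  let f : (K ⋊[φ] H) ≃* Shrink.{0} (K ⋊[φ] H) := Shrink.mulEquiv.symm
  haveI : Finite (Shrink.{0} (K ⋊[φ] H)) := Finite.of_equiv _ f.toEquiv
  have hF' := IsFrobeniusComplement.map_equiv f hF
  refine ⟨Shrink.{0} (K ⋊[φ] H), inferInstance, inferInstance, _, hF', ?_, ?_⟩
  · exact ⟨(MonoidHom.ofInjective inr_injective).trans (f.subgroupMap _)⟩
  · rw [card_frobeniusKernel hF', index_map_equiv, hc.index_eq_card]
    exact Nat.card_congr (MonoidHom.ofInjective inl_injective).toEquiv.symm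

end Cfsg.Agent.Lib.Helper22
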