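import Mathlib
import Cfsg.Prelude.Def_Local
import Cfsg.Agent.Lib.Helper13.CardSup

set_option autoImplicit false

/-! Tightly embedded subgroups: the `N_S(T) = T × (N_S(T) ∩ Q)` lemma. -/

namespace Cfsg.Agent.H22.Tight

open Subgroup

variable {G : Type*} [Group G]

structure Pre (A B T S : Subgroup G) : Prop where
  hAB : ∀ x, x ∈ A → x ∈ B → (∃ k : ℕ, x ^ (2 ^ k) = 1) → x = 1
  hB : ∀ x b, b ∈ B → b ≠ 1 → (∃ k : ℕ, b ^ (2 ^ k) = 1) → x * b * x⁻¹ ∈ B →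
    x ∈ normalizer (B : Set G)
  hTB : T ≤ B
  hTA : T ≤ normalizer (A : Set G)
  hTS : T ≤ S
  hS : S ≤ T ⊔ A
  hS2 : IsPGroup 2 S

namespace Pre

variable {A B T S : Subgroup G}

theorem two_el (h : Pre A B T S) {x : G} (hx : x ∈ S) : ∃ k : ℕ, x ^ (2 ^ k) = 1 := by
  obtain ⟨k, hk⟩ := h.hS2 ⟨x, hx⟩
  exact ⟨k, by simpa using congrArg Subtype.val hk⟩

theorem inf_TA (h : Pre A B T S) {x : G} (hxT : x ∈ T) (hxA : x ∈ A) : x = 1 :=
  h.hAB x hxA (h.hTB hxT) (h.two_el (h.hTS hxT))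

theorem comm (h : Pre A B T S) {τ ρ : G} (hτ : τ ∈ T) (hρN : ρ ∈ normalizer (T : Set G))
    (hρA : ρ ∈ A) : τ * ρ = ρ * τ := by
  have h1 : τ * ρ * τ⁻¹ ∈ A := (mem_normalizer_iff.1 (h.hTA hτ) ρ).1 hρA
  have h2 : ρ * τ⁻¹ * ρ⁻¹ ∈ T := (mem_normalizer_iff.1 hρN τ⁻¹).1 (T.inv_mem hτ)
  have h3 : τ * ρ * τ⁻¹ * ρ⁻¹ = 1 := by
    apply h.inf_TA
    · have : τ * ρ * τ⁻¹ * ρ⁻¹ = τ * (ρ * τ⁻¹ * ρ⁻¹) := by group
      rw [this]; exact T.mul_mem hτ h2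
    · exact A.mul_mem h1 (A.inv_mem hρA)
  have : τ * ρ = (τ * ρ * τ⁻¹ * ρ⁻¹) * (ρ * τ) := by group
  rw [this, h3, one_mul]

theorem decomp (h : Pre A B T S) {s : G} (hs : s ∈ S) :
    ∃ t ∈ T, ∃ a ∈ A, a ∈ S ∧ s = t * a := by
  obtain ⟨t, ht, a, ha, rfl⟩ := Cfsg.Agent.Lib.Helper13.mem_sup_of_le_normalizer h.hTA (h.hS hs)
  refine ⟨t, ht, a, ha, ?_, rfl⟩
  have := S.mul_mem (S.inv_mem (h.hTS ht)) hs
  simpa using this

theorem sup_eq (h : Pre A B T S) :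
    T ⊔ (S ⊓ normalizer (T : Set G) ⊓ A) = S ⊓ normalizer (T : Set G) := by
  apply le_antisymm
  · exact sup_le (le_inf h.hTS le_normalizer) inf_le_left
  · intro s hs
    obtain ⟨hsS, hsN⟩ := mem_inf.1 hs
    obtain ⟨t, ht, a, ha, haS, rfl⟩ := h.decomp hsS
    refine mul_mem (mem_sup_left ht) (mem_sup_right ?_)
    refine mem_inf.2 ⟨mem_inf.2 ⟨haS, ?_⟩, ha⟩
    have := (normalizer (T : Set G)).mul_mem
      ((normalizer (T : Set G)).inv_mem (le_normalizer ht)) hsN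
    simpa using this

theorem inf_eq (h : Pre A B T S) : T ⊓ (S ⊓ normalizer (T : Set G) ⊓ A) = ⊥ := by
  rw [eq_bot_iff]
  intro x hx
  obtain ⟨hxT, hxR⟩ := mem_inf.1 hx
  exact mem_bot.2 (h.inf_TA hxT (mem_inf.1 hxR).2)

theorem R_le (h : Pre A B T S) (hT1 : T ≠ ⊥) :
    S ⊓ normalizer (T : Set G) ⊓ A ≤ normalizer (B : Set G) := by
  intro ρ hρ
  obtain ⟨hρ1, hρA⟩ := mem_inf.1 hρ
  obtain ⟨hρS, hρN⟩ := mem_inf.1 hρ1
  obtain ⟨⟨τ, hτ⟩, hτ1⟩ := (T.ne_bot_iff_exists_ne_one).1 hT1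
  have hτ1' : τ ≠ 1 := fun e => hτ1 (Subtype.ext e)
  apply h.hB ρ τ (h.hTB hτ) hτ1' (h.two_el (h.hTS hτ))
  have := h.comm hτ hρN hρA
  rw [← this]; simpa using h.hTB hτ

theorem exists_hom [Finite G] (h : Pre A B T S) (hn : ¬ S ≤ normalizer (T : Set G)) :
    ∃ φ : T →* ↥(S ⊓ normalizer (T : Set G) ⊓ A), Function.Injective φ := by
  haveI : Fact (Nat.Prime 2) := ⟨Nat.prime_two⟩
  haveI : Group.IsNilpotent S := h.hS2.isNilpotent
  have hnc := Group.normalizerCondition_of_isNilpotent (G := S)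
  have hlt : (normalizer (T : Set G)).subgroupOf S < ⊤ := by
    rw [lt_top_iff_ne_top]; intro he
    exact hn (subgroupOf_eq_top.1 he)
  obtain ⟨x, hxN, hxn⟩ := SetLike.exists_of_lt (hnc _ hlt)
  have key : ∀ y ∈ S, y ∈ normalizer (T : Set G) →
      (x : G) * y * (x : G)⁻¹ ∈ normalizer (T : Set G) := by
    intro y hyS hyN
    have := (mem_normalizer_iff.1 hxN ⟨y, hyS⟩).1 (mem_subgroupOf.2 hyN)
    simpa [mem_subgroupOf] using this
  have hxn' : (x : G) ∉ normalizer (T : Set G) := fun hx => hxn (mem_subgroupOf.2 hx)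
  obtain ⟨t, ht, a, haA, haS, hxa⟩ := h.decomp x.2
  have htN : t ∈ normalizer (T : Set G) := le_normalizer ht
  have haN : a ∉ normalizer (T : Set G) := by
    intro ha
    apply hxn'
    rw [hxa]
    exact mul_mem htN ha
  have key2 : ∀ y ∈ S, y ∈ normalizer (T : Set G) → a * y * a⁻¹ ∈ normalizer (T : Set G) := by
    intro y hyS hyN
    have h1 := key y hyS hyN
    have h2 : a * y * a⁻¹ = t⁻¹ * ((x : G) * y * (x : G)⁻¹) * t := by
      rw [hxa]; group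
    rw [h2]
    exact mul_mem (mul_mem (inv_mem htN) h1) htN
  have hmem : ∀ τ ∈ T, τ⁻¹ * (a * τ * a⁻¹) ∈ S ⊓ normalizer (T : Set G) ⊓ A := by
    intro τ hτ
    refine mem_inf.2 ⟨mem_inf.2 ⟨?_, ?_⟩, ?_⟩
    · exact mul_mem (inv_mem (h.hTS hτ)) (mul_mem (mul_mem haS (h.hTS hτ)) (inv_mem haS))
    · exact mul_mem (inv_mem (le_normalizer hτ)) (key2 τ (h.hTS hτ) (le_normalizer hτ))
    · have h1 : τ⁻¹ * a * τ⁻¹⁻¹ ∈ A := (mem_normalizer_iff.1 (h.hTA (T.inv_mem hτ)) a).1 haA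
      have h2 : τ⁻¹ * (a * τ * a⁻¹) = (τ⁻¹ * a * τ⁻¹⁻¹) * a⁻¹ := by group
      rw [h2]
      exact mul_mem h1 (inv_mem haA)
  refine ⟨MonoidHom.mk' (fun τ => ⟨(τ : G)⁻¹ * (a * τ * a⁻¹), hmem τ τ.2⟩) ?_, ?_⟩
  · intro τ τ'
    apply Subtype.ext
    have hm := hmem τ τ.2
    have hc := h.comm τ'.2 (mem_inf.1 (mem_inf.1 hm).1).2 (mem_inf.1 hm).2
    show ((τ * τ' : T) : G)⁻¹ * (a * ((τ * τ' : T) : G) * a⁻¹)
      = ((τ : G)⁻¹ * (a * τ * a⁻¹)) * ((τ' : G)⁻¹ * (a * τ' * a⁻¹))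
    have e1 : ((τ * τ' : T) : G)⁻¹ * (a * ((τ * τ' : T) : G) * a⁻¹)
        = (τ' : G)⁻¹ * (((τ : G)⁻¹ * (a * τ * a⁻¹)) * (τ' : G)) * ((τ' : G)⁻¹ * (a * τ' * a⁻¹)) := by
      rw [Subgroup.coe_mul]; group
    rw [e1, ← hc]
    group
  · intro τ τ' hττ
    -- reduce to kernel
    by_contra hne
    have hval : (τ : G)⁻¹ * (a * τ * a⁻¹) = (τ' : G)⁻¹ * (a * τ' * a⁻¹) :=
      congrArg Subtype.val hττ
    set σ : G := (τ : G) * (τ' : G)⁻¹ with hσ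
    have hσT : σ ∈ T := T.mul_mem τ.2 (T.inv_mem τ'.2)
    have hσ1 : σ ≠ 1 := by
      intro e
      apply hne
      apply Subtype.ext
      exact mul_inv_eq_one.1 e
    have hfix : a * σ * a⁻¹ = σ := by
      have e2 : a * τ * a⁻¹ = (τ : G) * ((τ' : G)⁻¹ * (a * τ' * a⁻¹)) := by
        rw [← hval]; group
      have e3 : a * σ * a⁻¹ = (a * τ * a⁻¹) * (a * τ' * a⁻¹)⁻¹ := by
        rw [hσ]; group
      rw [e3, e2, hσ]; group
    have haB : a ∈ normalizer (B : Set G) := by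
      apply h.hB a σ (h.hTB hσT) hσ1 (h.two_el (h.hTS hσT))
      rw [hfix]; exact h.hTB hσT
    apply haN
    -- a centralizes T
    have hcen : ∀ u ∈ T, a * u * a⁻¹ = u := by
      intro u hu
      have hm := hmem u hu
      have h1 : u⁻¹ * (a * u * a⁻¹) = 1 := by
        apply h.hAB _ (mem_inf.1 hm).2
        · exact mul_mem (inv_mem (h.hTB hu)) ((mem_normalizer_iff.1 haB u).1 (h.hTB hu))
        · exact h.two_el (mem_inf.1 (mem_inf.1 hm).1).1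
      exact (inv_mul_eq_one.1 h1).symm
    rw [mem_normalizer_iff]
    intro u
    constructor
    · intro hu; rw [hcen u hu]; exact hu
    · intro hu
      have h1 := hcen _ hu
      have h2 : a * u * a⁻¹ = u := by
        have : a * (a * u * a⁻¹) * a⁻¹ = a * u * a⁻¹ := h1
        have h3 : a * u * a⁻¹ = a⁻¹ * (a * (a * u * a⁻¹) * a⁻¹) * a := by group
        rw [this] at h3
        rw [h3]; group
      rw [← h2]; exact hu

end Pre

end Cfsg.Agent.H22.Tight
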