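import Mathlib
import Cfsg.Agent.Lib.Helper22.Tight
import Cfsg.Agent.Lib.Helper22.PolarP1

set_option autoImplicit false

/-! Tightly embedded subgroups, part 2: cardinalities and the isomorphism. -/

namespace Cfsg.Agent.H22.Tight

open Subgroup

variable {G : Type*} [Group G]

theorem exists_syl [Finite G] {U H : Subgroup G} (hU : IsPGroup 2 U) (hUH : U ≤ H) :
    ∃ S' : Subgroup G, U ≤ S' ∧ S' ≤ H ∧ IsPGroup 2 S' ∧ ¬ 2 ∣ S'.relIndex H := by
  haveI : Fact (Nat.Prime 2) := ⟨Nat.prime_two⟩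
  have hU' : IsPGroup 2 (U.subgroupOf H) := hU.comap_subtype
  obtain ⟨P, hP⟩ := hU'.exists_le_sylow
  refine ⟨(P : Subgroup H).map H.subtype, ?_, map_subtype_le _, P.2.map _, ?_⟩
  · intro u hu
    exact ⟨⟨u, hUH hu⟩, hP (mem_subgroupOf.2 hu), rfl⟩
  · rw [relIndex, subgroupOf, comap_map_eq_self_of_injective (subtype_injective H)]
    exact P.not_dvd_index

theorem eq_of_syl [Finite G] {T U H : Subgroup G} (hTU : T ≤ U) (hUH : U ≤ H) (hU : IsPGroup 2 U)
    (hT : ¬ 2 ∣ T.relIndex H) : U = T := by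
  haveI : Fact (Nat.Prime 2) := ⟨Nat.prime_two⟩
  apply le_antisymm _ hTU
  rw [← relIndex_eq_one]
  have h1 := relIndex_mul_relIndex T U H hTU hUH
  have h2 : T.relIndex U ∣ Nat.card U := by
    have := Cfsg.Agent.Lib.Helper13.relIndex_mul_card' hTU
    exact Dvd.intro _ this
  obtain ⟨n, hn⟩ := hU.exists_card_eq
  rw [hn] at h2
  obtain ⟨k, _, hk⟩ := (Nat.dvd_prime_pow Nat.prime_two).1 h2
  rcases Nat.eq_zero_or_pos k with rfl | hk0
  · simpa using hk
  · exfalso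
    apply hT
    rw [← h1, hk]
    exact Dvd.dvd.mul_right (dvd_pow_self 2 hk0.ne') _

namespace Pre

variable {A B T S : Subgroup G}

theorem cmTR (h : Pre A B T S) : Cfsg.Agent.H22.Cm T (S ⊓ normalizer (T : Set G) ⊓ A) := by
  intro τ hτ ρ hρ
  exact h.comm hτ (mem_inf.1 (mem_inf.1 hρ).1).2 (mem_inf.1 hρ).2

theorem relIndex_of_normal [Finite G] (h : Pre A B T S) (hn : S ≤ normalizer (T : Set G)) :
    (S ⊓ normalizer (T : Set G) ⊓ A).relIndex A = S.relIndex (T ⊔ A) := by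
  have hS : T ⊔ (S ⊓ normalizer (T : Set G) ⊓ A) = S := by
    rw [h.sup_eq]; exact inf_eq_left.2 hn
  have c1 := Cfsg.Agent.Lib.Helper13.card_sup_mul_card_inf T A h.hTA
  have c2 := Cfsg.Agent.Lib.Helper13.card_sup_mul_card_inf T _
    (Cfsg.Agent.H22.cm_le_normalizer h.cmTR)
  rw [h.inf_eq, hS] at c2
  have hTA : T ⊓ A = ⊥ := by
    rw [eq_bot_iff]
    intro x hx
    exact mem_bot.2 (h.inf_TA (mem_inf.1 hx).1 (mem_inf.1 hx).2)
  rw [hTA] at c1
  simp only [Subgroup.card_bot, mul_one] at c1 c2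
  have c3 := Cfsg.Agent.Lib.Helper13.relIndex_mul_card' h.hS
  have c4 := Cfsg.Agent.Lib.Helper13.relIndex_mul_card'
    (inf_le_right : S ⊓ normalizer (T : Set G) ⊓ A ≤ A)
  rw [c1, c2, ← c4] at c3
  have hT0 : 0 < Nat.card T := Nat.card_pos
  have hR0 : 0 < Nat.card ↥(S ⊓ normalizer (T : Set G) ⊓ A) := Nat.card_pos
  have : (Nat.card T * Nat.card ↥(S ⊓ normalizer (T : Set G) ⊓ A)) * S.relIndex (T ⊔ A)
      = (Nat.card T * Nat.card ↥(S ⊓ normalizer (T : Set G) ⊓ A)) *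
        (S ⊓ normalizer (T : Set G) ⊓ A).relIndex A := by
    rw [mul_comm, c3]; ring
  exact (Nat.eq_of_mul_eq_mul_left (Nat.mul_pos hT0 hR0) this).symm

theorem card_le [Finite G] (h : Pre A B T S) (hsyl : ¬ 2 ∣ S.relIndex (T ⊔ A))
    (hcard : Nat.card B = Nat.card A) :
    Nat.card T ≤ Nat.card ↥(S ⊓ normalizer (T : Set G) ⊓ A) := by
  haveI : Fact (Nat.Prime 2) := ⟨Nat.prime_two⟩
  by_cases hn : S ≤ normalizer (T : Set G)
  · have h1 := h.relIndex_of_normal hn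
    have c4 := Cfsg.Agent.Lib.Helper13.relIndex_mul_card'
      (inf_le_right : S ⊓ normalizer (T : Set G) ⊓ A ≤ A)
    have h2 : Nat.card T ∣ Nat.card A := by
      rw [← hcard]; exact card_dvd_of_le h.hTB
    rw [← c4, h1] at h2
    obtain ⟨n, hn'⟩ := (h.hS2.to_le h.hTS).exists_card_eq
    have hcop : Nat.Coprime (Nat.card T) (S.relIndex (T ⊔ A)) := by
      rw [hn']
      apply Nat.Coprime.pow_left
      exact (Nat.Prime.coprime_iff_not_dvd Nat.prime_two).2 hsyl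
    exact Nat.le_of_dvd Nat.card_pos (hcop.dvd_of_dvd_mul_left h2)
  · obtain ⟨φ, hφ⟩ := h.exists_hom hn
    exact Nat.card_le_card_of_injective φ hφ

end Pre

theorem iso_of_syl [Finite G] {A B R T : Subgroup G} (e : A ≃* B) (hRA : R ≤ A) (hTB : T ≤ B)
    (hR : IsPGroup 2 R) (hT : IsPGroup 2 T) (hR2 : ¬ 2 ∣ R.relIndex A) (hT2 : ¬ 2 ∣ T.relIndex B) :
    Nonempty (R ≃* T) := by
  haveI : Fact (Nat.Prime 2) := ⟨Nat.prime_two⟩
  have hP1 : IsPGroup 2 (R.subgroupOf A) := hR.comap_subtype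
  have hP2 : IsPGroup 2 ((T.subgroupOf B).map (e.symm : B →* A)) := (hT.comap_subtype).map _
  have hi2 : ¬ 2 ∣ ((T.subgroupOf B).map (e.symm : B →* A)).index := by
    rw [index_map_equiv]; exact hT2
  have e1 : R ≃* R.subgroupOf A := (subgroupOfEquivOfLe hRA).symm
  have e2 : R.subgroupOf A ≃* ((T.subgroupOf B).map (e.symm : B →* A) : Subgroup A) :=
    Sylow.equiv (hP1.toSylow hR2) (hP2.toSylow hi2)
  have e3 : T.subgroupOf B ≃* ((T.subgroupOf B).map (e.symm : B →* A) : Subgroup A) :=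
    e.symm.subgroupMap (T.subgroupOf B)
  have e4 : T.subgroupOf B ≃* T := subgroupOfEquivOfLe hTB
  exact ⟨e1.trans (e2.trans (e3.symm.trans e4))⟩

theorem main [Finite G] {A B T S : Subgroup G} (h : Pre A B T S) (hT1 : T ≠ ⊥)
    (hA : ∀ x b, b ∈ A → b ≠ 1 → (∃ k : ℕ, b ^ (2 ^ k) = 1) → x * b * x⁻¹ ∈ A →
      x ∈ normalizer (A : Set G))
    (hsyl : ¬ 2 ∣ S.relIndex (T ⊔ A))
    (hTsyl : ¬ 2 ∣ T.relIndex (B ⊓ normalizer (A : Set G)))
    (e : A ≃* B) :
    Nonempty (↥(S ⊓ normalizer (T : Set G) ⊓ A) ≃* T) := by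
  haveI : Fact (Nat.Prime 2) := ⟨Nat.prime_two⟩
  have hcard : Nat.card B = Nat.card A := (Nat.card_congr e.toEquiv).symm
  have L1 := h.card_le hsyl hcard
  have hR1 : S ⊓ normalizer (T : Set G) ⊓ A ≠ ⊥ := by
    intro hb
    rw [hb, Subgroup.card_bot] at L1
    apply hT1
    exact (T.card_le_one_iff_eq_bot).1 L1
  have hRS : S ⊓ normalizer (T : Set G) ⊓ A ≤ S := inf_le_left.trans inf_le_left
  have hU2 : IsPGroup 2 ↥(T ⊔ (S ⊓ normalizer (T : Set G) ⊓ A)) :=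
    h.hS2.to_le (sup_le h.hTS hRS)
  obtain ⟨S', hUS', hS'H, hS'2, hS'syl⟩ := exists_syl hU2
    (sup_le (h.hTB.trans le_sup_right) le_sup_left :
      T ⊔ (S ⊓ normalizer (T : Set G) ⊓ A) ≤ (S ⊓ normalizer (T : Set G) ⊓ A) ⊔ B)
  have pre2 : Pre B A (S ⊓ normalizer (T : Set G) ⊓ A) S' :=
    { hAB := fun x hxB hxA => h.hAB x hxA hxB
      hB := hA
      hTB := inf_le_right
      hTA := h.R_le hT1
      hTS := le_sup_right.trans hUS'
      hS := hS'H
      hS2 := hS'2 }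
  have hTR'' : T ≤ S' ⊓ normalizer ((S ⊓ normalizer (T : Set G) ⊓ A : Subgroup G) : Set G) ⊓ B :=
    le_inf (le_inf (le_sup_left.trans hUS') (Cfsg.Agent.H22.cm_le_normalizer h.cmTR)) h.hTB
  have hR''N := pre2.R_le hR1
  have hR''2 : IsPGroup 2
      ↥(S' ⊓ normalizer ((S ⊓ normalizer (T : Set G) ⊓ A : Subgroup G) : Set G) ⊓ B) :=
    hS'2.to_le (inf_le_left.trans inf_le_left)
  have hEq : S' ⊓ normalizer ((S ⊓ normalizer (T : Set G) ⊓ A : Subgroup G) : Set G) ⊓ B = T :=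
    eq_of_syl hTR'' (le_inf inf_le_right hR''N) hR''2 hTsyl
  have L2 := pre2.card_le hS'syl hcard.symm
  rw [hEq] at L2
  have hc : Nat.card T = Nat.card ↥(S ⊓ normalizer (T : Set G) ⊓ A) := le_antisymm L1 L2
  by_cases hn : S ≤ normalizer (T : Set G)
  · by_cases hn' : S' ≤ normalizer ((S ⊓ normalizer (T : Set G) ⊓ A : Subgroup G) : Set G)
    · have r1 := h.relIndex_of_normal hn
      have r2 := pre2.relIndex_of_normal hn'
      rw [hEq] at r2
      exact iso_of_syl e inf_le_right h.hTB (h.hS2.to_le hRS) (h.hS2.to_le h.hTS)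
        (by rw [r1]; exact hsyl) (by rw [r2]; exact hS'syl)
    · obtain ⟨φ, hφ⟩ := pre2.exists_hom hn'
      have hb : Function.Bijective φ := by
        rw [Nat.bijective_iff_injective_and_card]
        refine ⟨hφ, ?_⟩
        rw [hEq]; exact hc.symm
      exact ⟨(MulEquiv.ofBijective φ hb).trans (MulEquiv.subgroupCongr hEq)⟩
  · obtain ⟨φ, hφ⟩ := h.exists_hom hn
    have hb : Function.Bijective φ := by
      rw [Nat.bijective_iff_injective_and_card]
      exact ⟨hφ, hc⟩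
    exact ⟨(MulEquiv.ofBijective φ hb).symm⟩

end Cfsg.Agent.H22.Tight
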